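import Mathlib

/-!
# Approximate bases of finite projective modules, semilocal base change
-/

set_option autoImplicit false
set_option maxHeartbeats 1000000
set_option backward.isDefEq.respectTransparency false
set_option linter.style.haveILetI false

universe u v

open scoped TensorProduct

namespace Groth.Agent.DetNorm

variable {R : Type u} [CommRing R] {M : Type v} [AddCommGroup M] [Module R M]

/-- `e` and `φ` are dual to each other and span, up to the scalar `s`. -/
structure IsFrame {ι : Type*} [Fintype ι] [DecidableEq ι] (e : ι → M) (φ : ι → M →ₗ[R] R) (s : R) : Prop where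
  dual : ∀ i j, φ i (e j) = if i = j then s else 0
  span : ∀ v, s • v = ∑ i, φ i v • e i

theorem exists_frame_of_basis [Module.Finite R M] [Module.FinitePresentation R M] (S : Submonoid R) {n : ℕ}
    (b : Module.Basis (Fin n) (Localization S) (LocalizedModule S M)) :
    ∃ (e : Fin n → M) (φ : Fin n → M →ₗ[R] R) (s : R), s ∈ S ∧ IsFrame e φ s := by
  classical
  let Rp := Localization S
  let Mp := LocalizedModule S M
  let mk := LocalizedModule.mkLinearMap S M
  have hb : ∀ j, ∃ m : M × S, (m.2 : R) • b j = mk m.1 := fun j => by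
    obtain ⟨m, hm⟩ := IsLocalizedModule.surj S mk (b j)
    exact ⟨m, hm⟩
  choose m hm using hb
  let u : Fin n → Rpˣ := fun j => (IsLocalization.map_units Rp (m j).2).unit
  let b' : Module.Basis (Fin n) Rp Mp := b.unitsSMul u
  have hb' : ∀ j, b' j = mk (m j).1 := fun j => by
    rw [Module.Basis.unitsSMul_apply, Units.smul_def, IsUnit.unit_spec, algebraMap_smul, hm]
  have hl : ∀ i, ∃ (g' : M →ₗ[R] R) (s : S), (Algebra.linearMap R Rp) ∘ₗ g' =
      s • (((b'.coord i).restrictScalars R) ∘ₗ mk) := fun i =>
    Module.FinitePresentation.exists_lift_of_isLocalizedModule S (Algebra.linearMap R Rp) _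
  choose g s hg using hl
  let s0 : R := ∏ i, (s i : R)
  let g0 : Fin n → (M →ₗ[R] R) := fun i => (∏ k ∈ Finset.univ.erase i, (s k : R)) • g i
  have hg0 : ∀ i x, algebraMap R Rp (g0 i x) = algebraMap R Rp s0 * b'.coord i (mk x) := by
    intro i x
    have h := LinearMap.congr_fun (hg i) x
    simp only [LinearMap.comp_apply, Algebra.linearMap_apply, LinearMap.smul_apply,
      LinearMap.restrictScalars_apply, Submonoid.smul_def, Algebra.smul_def] at h
    simp only [g0, LinearMap.smul_apply, smul_eq_mul, map_mul, h, ← mul_assoc, s0]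
    rw [← map_mul, Finset.prod_erase_mul _ _ (Finset.mem_univ i)]
  have hd : ∀ i j, ∃ c : S, (c : R) * g0 i (m j).1 = (c : R) * if i = j then s0 else 0 := by
    intro i j
    refine IsLocalization.exists_of_eq (M := S) (S := Rp) ?_
    rw [hg0, ← hb', Module.Basis.coord_apply, Module.Basis.repr_self, Finsupp.single_apply]
    by_cases h : i = j
    · subst h; simp
    · simp [h, Ne.symm h]
  choose c hc using hd
  let c0 : R := ∏ ij : Fin n × Fin n, (c ij.1 ij.2 : R)
  have hc0 : ∀ i j, c0 * g0 i (m j).1 = c0 * if i = j then s0 else 0 := by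
    intro i j
    simp only [c0]
    rw [← Finset.prod_erase_mul _ _ (Finset.mem_univ (i, j)), mul_assoc, mul_assoc, hc]
  obtain ⟨N, gen, hgen⟩ := Module.Finite.exists_fin (R := R) (M := M)
  let D : M →ₗ[R] M := s0 • LinearMap.id - ∑ j, (g0 j).smulRight (m j).1
  have hD : ∀ x, ∃ t : S, (t : R) • D x = 0 := by
    intro x
    have h0 : mk (D x) = 0 := by
      simp only [D, LinearMap.sub_apply, LinearMap.smul_apply, LinearMap.id_apply, LinearMap.sum_apply,
        LinearMap.smulRight_apply, map_sub, map_sum, map_smul, ← algebraMap_smul Rp (g0 _ x), hg0, ← hb',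
        mul_smul, ← Finset.smul_sum, Module.Basis.coord_apply, b'.sum_repr, algebraMap_smul, sub_self]
    obtain ⟨t, ht⟩ := (IsLocalizedModule.eq_zero_iff S mk).mp h0
    exact ⟨t, ht⟩
  choose t ht using fun i => hD (gen i)
  let t0 : R := ∏ i, (t i : R)
  have hD0 : t0 • D = 0 := by
    refine LinearMap.ext_on hgen ?_
    rintro _ ⟨i, rfl⟩
    simp only [t0, LinearMap.smul_apply, LinearMap.zero_apply]
    rw [← Finset.prod_erase_mul _ _ (Finset.mem_univ i), mul_smul, ht, smul_zero]
  refine ⟨fun j => (m j).1, fun i => (t0 * c0) • g0 i, t0 * c0 * s0,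
    S.mul_mem (S.mul_mem (prod_mem fun i _ => (t i).2) (prod_mem fun ij _ => (c ij.1 ij.2).2))
      (prod_mem fun i _ => (s i).2), ⟨fun i j => ?_, fun v => ?_⟩⟩
  · simp only [LinearMap.smul_apply, smul_eq_mul]
    rw [mul_assoc, hc0]
    split_ifs <;> ring
  · have h := congrArg (c0 • ·) (LinearMap.congr_fun hD0 v)
    simp only [D, LinearMap.smul_apply, LinearMap.sub_apply, LinearMap.id_apply, LinearMap.sum_apply,
      LinearMap.smulRight_apply, LinearMap.zero_apply, smul_zero, smul_sub, Finset.smul_sum, smul_smul,
      sub_eq_zero] at h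
    simp only [LinearMap.smul_apply, smul_eq_mul]
    rw [show t0 * c0 * s0 = c0 * (t0 * s0) by ring]
    refine (Eq.trans ?_ (h.trans (Finset.sum_congr rfl fun j _ => ?_)))
    · simp only [mul_assoc]
    · congr 1; ring

/-- Over a semilocal localization a projective module of constant rank is free: frames. -/
theorem exists_frame_semilocal [Module.Finite R M] [Module.Projective R M] (S : Submonoid R)
    [Finite (MaximalSpectrum (Localization S))] {n : ℕ}
    (hn : ∀ q : PrimeSpectrum R, Module.rankAtStalk M q = n) :
    ∃ (e : Fin n → M) (φ : Fin n → M →ₗ[R] R) (s : R), s ∈ S ∧ IsFrame e φ s := by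
  haveI := Module.finitePresentation_of_projective R M
  let B := Localization S
  let g := LocalizedModule.mkLinearMap S M
  haveI : Module.Finite B (LocalizedModule S M) := Module.Finite.of_isLocalizedModule S (Rₚ := B) g
  haveI : Module.Flat B (LocalizedModule S M) := inferInstance
  have hb : Nonempty (Module.Basis (Fin n) B (LocalizedModule S M)) := by
    refine Module.nonempty_basis_of_flat_of_finrank_eq B _ n fun P => ?_
    letI := Ideal.Quotient.field P.1
    have h1 : Module.rankAtStalk (R := B) (LocalizedModule S M) ⟨P.1, P.2.isPrime⟩ = n := by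
      rw [Module.rankAtStalk_isBaseChange (IsLocalizedModule.isBaseChange S B g)]
      exact hn _
    rw [Module.rankAtStalk_eq] at h1
    rw [← h1]
    refine Eq.trans ?_ (TensorProduct.AlgebraTensorModule.cancelBaseChange B (B ⧸ P.1) P.1.ResidueField
      P.1.ResidueField (LocalizedModule S M)).finrank_eq
    exact (Module.finrank_baseChange (R := P.1.ResidueField) (S := B ⧸ P.1)
      (M' := (B ⧸ P.1) ⊗[B] LocalizedModule S M)).symm
  exact exists_frame_of_basis S hb.some

/-- The localization of a finite algebra at a prime of the base is semilocal. -/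
theorem finite_maximalSpectrum (A B : Type u) [CommRing A] [CommRing B] [Algebra A B] [Module.Finite A B]
    (p : Ideal A) [p.IsPrime] :
    Finite (MaximalSpectrum (Localization (Algebra.algebraMapSubmonoid B p.primeCompl))) := by
  classical
  let S := Algebra.algebraMapSubmonoid B p.primeCompl
  let L := Localization S
  have hfin : (p.primesOver B).Finite := Algebra.QuasiFinite.finite_primesOver p
  have hcomap : ∀ P : MaximalSpectrum L, P.1.comap (algebraMap B L) ∈ p.primesOver B := by
    intro P
    set Q := P.1.comap (algebraMap B L) with hQ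
    haveI hQp : Q.IsPrime := Ideal.IsPrime.comap _
    have hd : Disjoint (S : Set B) (Q : Set B) :=
      ((IsLocalization.isPrime_iff_isPrime_disjoint S L P.1).1 P.2.isPrime).2
    have hle : Q.comap (algebraMap A B) ≤ p := fun a ha => by
      by_contra hap
      exact Set.disjoint_left.1 hd ⟨a, hap, rfl⟩ ha
    obtain ⟨Q', hQQ', hQ'p, hQ'⟩ := Ideal.exists_ideal_over_prime_of_isIntegral p Q hle
    have hd' : Disjoint (S : Set B) (Q' : Set B) := Set.disjoint_left.2 fun x hx hx' => by
      obtain ⟨a, ha, rfl⟩ := hx
      exact ha (hQ' ▸ hx' : a ∈ p)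
    have hne : Ideal.map (algebraMap B L) Q' ≠ ⊤ :=
      (IsLocalization.isPrime_of_isPrime_disjoint S L _ hQ'p hd').ne_top
    have hle' : P.1 ≤ Ideal.map (algebraMap B L) Q' :=
      (IsLocalization.map_under S L P.1).ge.trans (Ideal.map_mono hQQ')
    refine ⟨hQp, ⟨?_⟩⟩
    rw [hQ, P.2.eq_of_le hne hle']
    show p = Ideal.comap (algebraMap A B) ((Ideal.map (algebraMap B L) Q').comap (algebraMap B L))
    rw [show (Ideal.map (algebraMap B L) Q').comap (algebraMap B L) = Q' from
      IsLocalization.under_map_of_isPrime_disjoint S L hQ'p hd']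
    exact hQ'.symm
  haveI := hfin.to_subtype
  refine Finite.of_injective (fun P : MaximalSpectrum L => (⟨_, hcomap P⟩ : p.primesOver B)) fun P Q h => ?_
  refine MaximalSpectrum.ext ((IsLocalization.map_under S L P.1).symm.trans
    (Eq.trans ?_ (IsLocalization.map_under S L Q.1)))
  exact congrArg (Ideal.map (algebraMap B L)) (congrArg Subtype.val h)

/-- Frames over the algebra with scalars from the base. -/
theorem exists_frame_over {A B : Type u} [CommRing A] [CommRing B] [Algebra A B] [Module.Finite A B]
    {N : Type v} [AddCommGroup N] [Module B N] [Module.Finite B N] [Module.Projective B N] {k : ℕ}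
    (hk : ∀ q : PrimeSpectrum B, Module.rankAtStalk N q = k) (p : Ideal A) [p.IsPrime] :
    ∃ (e : Fin k → N) (φ : Fin k → N →ₗ[B] B) (s : A), s ∉ p ∧ IsFrame e φ (algebraMap A B s) := by
  haveI := finite_maximalSpectrum A B p
  obtain ⟨e, φ, s', hs', h⟩ := exists_frame_semilocal (R := B) (M := N) (Algebra.algebraMapSubmonoid B p.primeCompl) hk
  obtain ⟨s, hs, rfl⟩ := hs'
  exact ⟨e, φ, s, hs, h⟩

/-- Frames of a projective module of constant rank at a prime. -/
theorem exists_frame_semilocal' {A : Type u} [CommRing A] {N : Type v} [AddCommGroup N] [Module A N]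
    [Module.Finite A N] [Module.Projective A N] {n : ℕ}
    (hn : ∀ q : PrimeSpectrum A, Module.rankAtStalk N q = n) (p : Ideal A) [p.IsPrime] :
    ∃ (e : Fin n → N) (φ : Fin n → N →ₗ[A] A) (s : A), s ∉ p ∧ IsFrame e φ s := by
  obtain ⟨e, φ, s, hs, h⟩ := exists_frame_over (A := A) (B := A) hn p
  exact ⟨e, φ, s, hs, h⟩

end Groth.Agent.DetNorm
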