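import Groth.Agent.DetNorm.Frame
import Mathlib

/-!
# Maps invertible up to scalars, gluing, cyclic modules
-/

set_option autoImplicit false
set_option maxHeartbeats 1000000
set_option linter.style.haveILetI false

universe u

open scoped TensorProduct

namespace Groth.Agent.DetNorm

variable {A : Type*} [CommRing A] (p : Ideal A)

section

variable {X Y Z W : Type*} [AddCommMonoid X] [Module A X] [AddCommMonoid Y] [Module A Y]
  [AddCommMonoid Z] [Module A Z] [AddCommMonoid W] [Module A W]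

/-- Invertible up to a scalar outside `p`. -/
def AInv (f : X →ₗ[A] Y) : Prop :=
  ∃ t ∉ p, ∃ g : Y →ₗ[A] X, g ∘ₗ f = t • LinearMap.id ∧ f ∘ₗ g = t • LinearMap.id

variable {p}

theorem AInv.comp [p.IsPrime] {f : X →ₗ[A] Y} {g : Y →ₗ[A] Z} (hf : AInv p f) (hg : AInv p g) :
    AInv p (g ∘ₗ f) := by
  obtain ⟨t, ht, f', hf1, hf2⟩ := hf
  obtain ⟨r, hr, g', hg1, hg2⟩ := hg
  refine ⟨r * t, fun h => (Ideal.IsPrime.mem_or_mem ‹_› h).elim hr ht, f' ∘ₗ g', ?_, ?_⟩
  · rw [show (f' ∘ₗ g') ∘ₗ (g ∘ₗ f) = f' ∘ₗ (g' ∘ₗ g) ∘ₗ f from rfl, hg1, LinearMap.smul_comp,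
      LinearMap.id_comp, LinearMap.comp_smul, hf1, mul_smul]
  · rw [show (g ∘ₗ f) ∘ₗ (f' ∘ₗ g') = g ∘ₗ (f ∘ₗ f') ∘ₗ g' from rfl, hf2, LinearMap.smul_comp,
      LinearMap.id_comp, LinearMap.comp_smul, hg2, mul_comm, mul_smul]

theorem AInv.lTensor {f : X →ₗ[A] Y} (hf : AInv p f) : AInv p (f.lTensor W) := by
  obtain ⟨t, ht, g, h1, h2⟩ := hf
  refine ⟨t, ht, g.lTensor W, ?_, ?_⟩
  · rw [← LinearMap.lTensor_comp, h1, LinearMap.lTensor_smul, LinearMap.lTensor_id]
  · rw [← LinearMap.lTensor_comp, h2, LinearMap.lTensor_smul, LinearMap.lTensor_id]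

theorem AInv.rTensor {f : X →ₗ[A] Y} (hf : AInv p f) : AInv p (f.rTensor W) := by
  obtain ⟨t, ht, g, h1, h2⟩ := hf
  refine ⟨t, ht, g.rTensor W, ?_, ?_⟩
  · rw [← LinearMap.rTensor_comp, h1, LinearMap.rTensor_smul, LinearMap.rTensor_id]
  · rw [← LinearMap.rTensor_comp, h2, LinearMap.rTensor_smul, LinearMap.rTensor_id]

theorem map_smul_id {X : Type*} [AddCommGroup X] [Module A X] (n : ℕ) (t : A) :
    exteriorPower.map n (t • LinearMap.id : X →ₗ[A] X) = t ^ n • LinearMap.id := by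
  apply exteriorPower.linearMap_ext
  ext1 v
  simp only [LinearMap.compAlternatingMap_apply, exteriorPower.map_apply_ιMulti, LinearMap.smul_apply,
    LinearMap.id_coe, id_eq]
  rw [show ((t • LinearMap.id : X →ₗ[A] X)) ∘ v = fun i => t • v i from rfl]
  have := (exteriorPower.ιMulti A n (M := X)).toMultilinearMap.map_smul_univ (fun _ => t) v
  simpa using this

theorem map_smul_eq {X Y : Type*} [AddCommGroup X] [Module A X] [AddCommGroup Y] [Module A Y]
    (n : ℕ) (t : A) (f : X →ₗ[A] Y) :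
    exteriorPower.map n (t • f) = t ^ n • exteriorPower.map n f := by
  rw [show t • f = f ∘ₗ (t • LinearMap.id) by rw [LinearMap.comp_smul, LinearMap.comp_id],
    exteriorPower.map_comp, map_smul_id, LinearMap.comp_smul, LinearMap.comp_id]

theorem AInv.map {X Y : Type*} [AddCommGroup X] [Module A X] [AddCommGroup Y] [Module A Y]
    [p.IsPrime] (n : ℕ) {f : X →ₗ[A] Y} (hf : AInv p f) : AInv p (exteriorPower.map n f) := by
  obtain ⟨t, ht, g, h1, h2⟩ := hf
  refine ⟨t ^ n, fun h => ht (Ideal.IsPrime.mem_of_pow_mem ‹_› _ h), exteriorPower.map n g, ?_, ?_⟩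
  · rw [← exteriorPower.map_comp, h1, map_smul_id]
  · rw [← exteriorPower.map_comp, h2, map_smul_id]

/-- `L` is generated by `ω` and detected by `D`, up to `s`. -/
structure IsCyc (ω : X) (D : X →ₗ[A] A) (s : A) : Prop where
  span : ∀ x, s • x = D x • ω
  dual : D ω = s

theorem IsCyc.mul {ω : X} {D : X →ₗ[A] A} {s : A} (h : IsCyc ω D s) (t : A) :
    IsCyc ω (t • D) (t * s) :=
  ⟨fun x => by rw [LinearMap.smul_apply, smul_eq_mul, mul_smul, mul_smul, h.span],
    by rw [LinearMap.smul_apply, h.dual, smul_eq_mul]⟩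

theorem IsCyc.ext_smul {ω : X} {D : X →ₗ[A] A} {s : A} (h : IsCyc ω D s) {F G : X →ₗ[A] Y} {t : A}
    (hω : t • F ω = t • G ω) : (t * s) • F = (t * s) • G := by
  ext x
  rw [LinearMap.smul_apply, LinearMap.smul_apply, mul_smul, mul_smul, ← map_smul F, ← map_smul G, h.span,
    map_smul, map_smul, smul_comm t (D x), smul_comm t (D x), hω]

theorem IsCyc.tensor {ω : X} {D : X →ₗ[A] A} {s : A} (h : IsCyc ω D s)
    {ω' : Y} {D' : Y →ₗ[A] A} {s' : A} (h' : IsCyc ω' D' s') :
    IsCyc (ω ⊗ₜ[A] ω') ((TensorProduct.lid A A).toLinearMap ∘ₗ TensorProduct.map D D') (s * s') := by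
  refine ⟨fun z => ?_, ?_⟩
  · induction z using TensorProduct.induction_on with
    | zero => simp
    | add x y hx hy => rw [smul_add, hx, hy, map_add, add_smul]
    | tmul x y =>
      simp only [LinearMap.comp_apply, TensorProduct.map_tmul, LinearEquiv.coe_coe, TensorProduct.lid_tmul,
        smul_eq_mul]
      rw [← TensorProduct.smul_tmul_smul, h.span, h'.span, TensorProduct.smul_tmul_smul]
  · simp [h.dual, h'.dual]

theorem AInv.of_cyc [p.IsPrime] {f : X →ₗ[A] Y} {ω : X} {D : X →ₗ[A] A} {s : A} (h : IsCyc ω D s)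
    {D' : Y →ₗ[A] A} (h' : IsCyc (f ω) D' s) (hs : s ∉ p) : AInv p f := by
  refine ⟨s * s, fun h => (Ideal.IsPrime.mem_or_mem ‹_› h).elim hs hs,
    s • (LinearMap.toSpanSingleton A X ω ∘ₗ D'), ?_, ?_⟩
  · ext x
    simp only [LinearMap.comp_apply, LinearMap.smul_apply, LinearMap.toSpanSingleton_apply, LinearMap.id_apply]
    have h1 : s * D' (f x) = D x * s := by
      rw [← smul_eq_mul, ← map_smul, ← map_smul, h.span, map_smul, map_smul, h'.dual, smul_eq_mul]
    rw [smul_smul, h1, mul_comm, mul_smul, ← h.span, smul_smul]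
  · ext x
    simp only [LinearMap.comp_apply, LinearMap.smul_apply, LinearMap.toSpanSingleton_apply, LinearMap.id_apply,
      map_smul]
    rw [← h'.span, smul_smul]

/-- Endomorphisms can be moved across a tensor product of cyclic modules. -/
theorem IsCyc.swap {ω : X} {D : X →ₗ[A] A} {s : A} (h : IsCyc ω D s) (f : X →ₗ[A] X) :
    s ^ 3 • f.rTensor X = s ^ 3 • f.lTensor X := by
  have hf : ∀ x, s • s • f x = (D x * D (f ω)) • ω := fun x => by
    have h1 : s • f x = D x • f ω := by rw [← map_smul, h.span, map_smul]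
    rw [h1, smul_comm, h.span, smul_smul]
  refine TensorProduct.ext' fun x y => ?_
  simp only [LinearMap.smul_apply, LinearMap.rTensor_tmul, LinearMap.lTensor_tmul]
  calc s ^ 3 • (f x ⊗ₜ[A] y) = (s • s • f x) ⊗ₜ[A] (s • y) := by
        rw [smul_smul, TensorProduct.smul_tmul_smul]; congr 1; ring
    _ = (D x * D (f ω) * D y) • (ω ⊗ₜ[A] ω) := by rw [hf, h.span, TensorProduct.smul_tmul_smul]
    _ = (D x * (D y * D (f ω))) • (ω ⊗ₜ[A] ω) := by congr 1; ring
    _ = (s • x) ⊗ₜ[A] (s • s • f y) := by rw [hf, h.span, TensorProduct.smul_tmul_smul]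
    _ = s ^ 3 • (x ⊗ₜ[A] f y) := by rw [smul_smul s s, TensorProduct.smul_tmul_smul]; congr 1; ring

end

theorem mem_of_locally {W : Type*} [AddCommGroup W] [Module A W] (S : Submodule A W) (x : W)
    (hx : ∀ p : Ideal A, p.IsMaximal → ∃ t ∉ p, t • x ∈ S) : x ∈ S := by
  by_contra hn
  have hne : (S.comap (LinearMap.toSpanSingleton A W x) : Ideal A) ≠ ⊤ := fun h => hn (by
    have h1 : (1 : A) ∈ (S.comap (LinearMap.toSpanSingleton A W x) : Ideal A) := h ▸ trivial
    rwa [Submodule.mem_comap, LinearMap.toSpanSingleton_apply, one_smul] at h1)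
  obtain ⟨p, hp, hle⟩ := Ideal.exists_le_maximal _ hne
  obtain ⟨t, ht, htx⟩ := hx p hp
  exact ht (hle (by rwa [Submodule.mem_comap, LinearMap.toSpanSingleton_apply]))

theorem ker_le_of_locally {P Q Z V : Type*} [AddCommGroup P] [Module A P] [AddCommGroup Q] [Module A Q]
    [AddCommGroup Z] [Module A Z] [AddCommGroup V] [Module A V]
    (H : V →ₗ[A] P) (H' : V →ₗ[A] Q)
    (hH : ∀ p : Ideal A, p.IsMaximal → ∃ (H₀ : Z →ₗ[A] P) (H₀' : Z →ₗ[A] Q), AInv p H₀ ∧
      ∀ z, ∃ t ∉ p, ∃ w, t • H z = H₀ w ∧ t • H' z = H₀' w) :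
    LinearMap.ker H ≤ LinearMap.ker H' := by
  intro z hz
  rw [LinearMap.mem_ker] at hz ⊢
  refine (Submodule.mem_bot A).1 (mem_of_locally ⊥ _ fun p hp => ?_)
  obtain ⟨H₀, H₀', ⟨r, hr, k, hk, -⟩, hzz⟩ := hH p hp
  obtain ⟨t, ht, w, hw, hw'⟩ := hzz z
  refine ⟨r * t, fun h => (hp.isPrime.mem_or_mem h).elim hr ht, (Submodule.mem_bot A).2 ?_⟩
  have hrw : r • w = 0 := by
    have := LinearMap.congr_fun hk w
    simp only [LinearMap.comp_apply, LinearMap.smul_apply, LinearMap.id_apply] at this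
    rw [← this, ← hw, hz, smul_zero, map_zero]
  rw [mul_smul, hw', ← map_smul, hrw, map_zero]

theorem surjective_of_locally {P Z : Type*} [AddCommGroup P] [Module A P]
    [AddCommGroup Z] [Module A Z] {ι : Type*} (H : ι → Z →ₗ[A] P)
    (hH : ∀ p : Ideal A, p.IsMaximal → ∃ i₀, AInv p (H i₀)) : Function.Surjective (Finsupp.lsum A H) := by
  classical
  intro x
  refine LinearMap.mem_range.1 (mem_of_locally _ x fun p hp => ?_)
  obtain ⟨i₀, t, ht, k, -, hk⟩ := hH p hp
  refine ⟨t, ht, Finsupp.single i₀ (k x), ?_⟩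
  rw [Finsupp.lsum_single]
  simpa using LinearMap.congr_fun hk x

/-- Locally proportional families with invertible members define an isomorphism. -/
theorem glue {P Q Z : Type*} [AddCommGroup P] [Module A P] [AddCommGroup Q] [Module A Q]
    [AddCommGroup Z] [Module A Z] {ι : Type*} (G : ι → Z →ₗ[A] P) (F : ι → Z →ₗ[A] Q)
    (h : ∀ p : Ideal A, p.IsMaximal → ∃ i₀, AInv p (G i₀) ∧ AInv p (F i₀) ∧
      ∀ i, ∃ t ∉ p, ∃ c : Z →ₗ[A] Z, t • G i = G i₀ ∘ₗ c ∧ t • F i = F i₀ ∘ₗ c) :
    Nonempty (P ≃ₗ[A] Q) := by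
  classical
  let g : (ι →₀ Z) →ₗ[A] P := Finsupp.lsum A G
  let f : (ι →₀ Z) →ₗ[A] Q := Finsupp.lsum A F
  have key : ∀ (p : Ideal A), p.IsMaximal → ∀ i₀, (∀ i, ∃ t ∉ p, ∃ c : Z →ₗ[A] Z, t • G i = G i₀ ∘ₗ c ∧ t • F i = F i₀ ∘ₗ c) →
      ∀ z : ι →₀ Z, ∃ t ∉ p, ∃ w : Z, t • g z = G i₀ w ∧ t • f z = F i₀ w := by
    intro p hp i₀ hc z
    haveI := hp.isPrime
    induction z using Finsupp.induction with
    | zero => exact ⟨1, fun h => hp.ne_top ((Ideal.eq_top_iff_one p).2 h), 0, by simp, by simp⟩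
    | single_add i z z' _ _ ih =>
      obtain ⟨t, ht, c, hcG, hcF⟩ := hc i
      obtain ⟨t', ht', w, hwG, hwF⟩ := ih
      refine ⟨t' * t, fun h => (Ideal.IsPrime.mem_or_mem ‹_› h).elim ht' ht, t' • c z + t • w, ?_, ?_⟩
      · rw [map_add, smul_add, map_add, map_smul, map_smul, mul_smul, ← hwG, smul_smul t t', mul_comm t t']
        congr 2
        simpa [g] using LinearMap.congr_fun hcG z
      · rw [map_add, smul_add, map_add, map_smul, map_smul, mul_smul, ← hwF, smul_smul t t', mul_comm t t']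
        congr 2
        simpa [f] using LinearMap.congr_fun hcF z
  have hgs : Function.Surjective g := surjective_of_locally G fun p hp => (h p hp).imp fun i hi => hi.1
  have hfs : Function.Surjective f := surjective_of_locally F fun p hp => (h p hp).imp fun i hi => hi.2.1
  have hgf : LinearMap.ker g = LinearMap.ker f := le_antisymm
    (ker_le_of_locally g f fun p hp => by
      obtain ⟨i₀, hG, -, hc⟩ := h p hp
      exact ⟨G i₀, F i₀, hG, key p hp i₀ hc⟩)
    (ker_le_of_locally f g fun p hp => by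
      obtain ⟨i₀, -, hF, hc⟩ := h p hp
      refine ⟨F i₀, G i₀, hF, fun z => ?_⟩
      obtain ⟨t, ht, w, h1, h2⟩ := key p hp i₀ hc z
      exact ⟨t, ht, w, h2, h1⟩)
  exact ⟨(g.quotKerEquivOfSurjective hgs).symm ≪≫ₗ Submodule.quotEquivOfEq _ _ hgf ≪≫ₗ
    f.quotKerEquivOfSurjective hfs⟩

section

variable {A : Type u} [CommRing A] {X : Type*} [AddCommGroup X] [Module A X]

/-- Alternating maps at linear combinations of a family. -/
theorem alternating_sum {Y : Type*} [AddCommGroup Y] [Module A Y] {ι : Type*} [Fintype ι] [DecidableEq ι]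
    (f : X [⋀^ι]→ₗ[A] Y) (e : ι → X) (T : Matrix ι ι A) :
    f (fun i => ∑ j, T i j • e j) = T.det • f e := by
  let L : (ι → A) →ₗ[A] X := Fintype.linearCombination A e
  let b := Pi.basisFun A ι
  have h : f.compLinearMap L =
      (LinearMap.toSpanSingleton A Y ((f.compLinearMap L) b)).compAlternatingMap b.det := by
    refine b.ext_alternating fun i hi => ?_
    let σ : Equiv.Perm ι := Equiv.ofBijective i (Finite.injective_iff_bijective.1 hi)
    change (f.compLinearMap L) (b ∘ σ) =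
      ((LinearMap.toSpanSingleton A Y ((f.compLinearMap L) b)).compAlternatingMap b.det) (b ∘ σ)
    simp [AlternatingMap.map_perm, Module.Basis.det_self]
  have h' := congrArg (fun F => F (fun i => T i)) h
  simp only [AlternatingMap.compLinearMap_apply, LinearMap.compAlternatingMap_apply,
    LinearMap.toSpanSingleton_apply] at h'
  have hL : ∀ v : ι → A, L v = ∑ j, v j • e j := fun v => Fintype.linearCombination_apply A e v
  simp only [hL] at h'
  rw [h']
  congr 1
  · rw [Pi.basisFun_det_apply]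
    exact congrArg Matrix.det rfl
  · congr 1
    funext i
    simp [b, Pi.single_apply]

/-- The top exterior power of a frame is cyclic. -/
theorem IsFrame.isCyc {N : ℕ} {e : Fin N → X} {φ : Fin N → X →ₗ[A] A} {s : A} (h : IsFrame e φ s) :
    ∃ D : ⋀[A]^N X →ₗ[A] A, IsCyc (exteriorPower.ιMulti A N e) D (s ^ N) := by
  classical
  let D₀ : X [⋀^Fin N]→ₗ[A] A := (Pi.basisFun A (Fin N)).det.compLinearMap (LinearMap.pi φ)
  refine ⟨exteriorPower.alternatingMapLinearEquiv D₀, fun x => ?_, ?_⟩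
  · suffices hh : s ^ N • (LinearMap.id : ⋀[A]^N X →ₗ[A] ⋀[A]^N X) =
        LinearMap.toSpanSingleton A _ (exteriorPower.ιMulti A N e) ∘ₗ exteriorPower.alternatingMapLinearEquiv D₀ by
      simpa using LinearMap.congr_fun hh x
    apply exteriorPower.linearMap_ext
    ext1 v
    simp only [LinearMap.compAlternatingMap_apply, LinearMap.smul_apply, LinearMap.id_apply,
      LinearMap.comp_apply, exteriorPower.alternatingMapLinearEquiv_apply_ιMulti,
      LinearMap.toSpanSingleton_apply]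
    have h1 := (exteriorPower.ιMulti A N (M := X)).toMultilinearMap.map_smul_univ (fun _ => s) v
    simp only [Finset.prod_const, Finset.card_univ, Fintype.card_fin, AlternatingMap.coe_multilinearMap] at h1
    rw [← h1, show (fun i => s • v i) = fun i => ∑ j, (Matrix.of fun i j => φ j (v i)) i j • e j from
      funext fun i => h.span (v i), alternating_sum]
    congr 1
    rw [AlternatingMap.compLinearMap_apply, Pi.basisFun_det_apply]
    rfl
  · rw [exteriorPower.alternatingMapLinearEquiv_apply_ιMulti, AlternatingMap.compLinearMap_apply,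
      Pi.basisFun_det_apply]
    rw [show (Matrix.of fun i => LinearMap.pi φ (e i)) = s • (1 : Matrix (Fin N) (Fin N) A) from by
      ext i j
      simp [h.dual, Matrix.one_apply, eq_comm]]
    rw [Matrix.det_smul, Matrix.det_one, Fintype.card_fin, mul_one]

/-- Wedge of linear combinations. -/
theorem ιMulti_sum {N : ℕ} (e : Fin N → X) (T : Matrix (Fin N) (Fin N) A) :
    exteriorPower.ιMulti A N (fun i => ∑ j, T i j • e j) = T.det • exteriorPower.ιMulti A N e :=
  alternating_sum _ e T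

end

end Groth.Agent.DetNorm
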