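import Groth.Agent.DetNorm.Glue
import Mathlib

/-!
# The exterior power of a free module over a finite locally free algebra
-/

set_option autoImplicit false
set_option maxHeartbeats 1000000
set_option backward.isDefEq.respectTransparency false
set_option linter.style.haveILetI false

universe u

open scoped TensorProduct

noncomputable section

namespace Groth.Agent.DetNorm

variable {A B : Type u} [CommRing A] [CommRing B] [Algebra A B] (n l : ℕ)

variable (A B) in
/-- Wedge of the pieces. -/
def wedgeAlg : (⨂[A]^l (⋀[A]^n B)) ⊗[A] (⋀[A]^n B) →ₗ[A] ExteriorAlgebra A (Fin (l + 1) → B) :=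
  LinearMap.mul' A _ ∘ₗ TensorProduct.map
    (PiTensorProduct.lift ((MultilinearMap.mkPiAlgebraFin A l (ExteriorAlgebra A (Fin (l + 1) → B))).compLinearMap
      fun i => (⋀[A]^n (Fin (l + 1) → B)).subtype ∘ₗ
        exteriorPower.map n (LinearMap.single A (fun _ : Fin (l + 1) => B) i.castSucc)))
    ((⋀[A]^n (Fin (l + 1) → B)).subtype ∘ₗ
      exteriorPower.map n (LinearMap.single A (fun _ : Fin (l + 1) => B) (Fin.last l)))

theorem wedgeAlg_mem (z : (⨂[A]^l (⋀[A]^n B)) ⊗[A] (⋀[A]^n B)) :
    wedgeAlg A B n l z ∈ ⋀[A]^(n * (l + 1)) (Fin (l + 1) → B) := by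
  induction z using TensorProduct.induction_on with
  | zero => rw [map_zero]; exact zero_mem _
  | add x y hx hy => rw [map_add]; exact add_mem hx hy
  | tmul x y =>
    simp only [wedgeAlg, LinearMap.comp_apply, TensorProduct.map_tmul, LinearMap.mul'_apply]
    rw [show n * (l + 1) = n * l + n by ring]
    refine SetLike.mul_mem_graded (A := fun i : ℕ => ⋀[A]^i (Fin (l + 1) → B)) ?_ (Subtype.mem _)
    induction x using PiTensorProduct.induction_on with
    | smul_tprod r v =>
      rw [map_smul, PiTensorProduct.lift.tprod, MultilinearMap.compLinearMap_apply]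
      refine Submodule.smul_mem _ _ ?_
      have h := SetLike.list_prod_ofFn_mem_graded (A := fun i : ℕ => ⋀[A]^i (Fin (l + 1) → B))
        (fun _ : Fin l => n) (fun i => ((exteriorPower.map n
          (LinearMap.single A (fun _ : Fin (l + 1) => B) i.castSucc) (v i) : ⋀[A]^n (Fin (l + 1) → B)) :
            ExteriorAlgebra A (Fin (l + 1) → B))) (fun i => Subtype.mem _)
      rw [List.ofFn_const, List.sum_replicate, smul_eq_mul, mul_comm] at h
      exact h
    | add x y hx hy => rw [map_add]; exact add_mem hx hy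

variable (A B) in
/-- The wedge map `(⋀ⁿB)^{⊗(l+1)} → ⋀^{n(l+1)}(B^{l+1})`. -/
def wedge : (⨂[A]^l (⋀[A]^n B)) ⊗[A] (⋀[A]^n B) →ₗ[A] ⋀[A]^(n * (l + 1)) (Fin (l + 1) → B) :=
  (wedgeAlg A B n l).codRestrict _ (wedgeAlg_mem n l)

/-- Enumeration of pairs. -/
def enum : Fin (n * (l + 1)) ≃ Fin (l + 1) × Fin n :=
  (finProdFinEquiv.trans (finCongr (mul_comm (l + 1) n))).symm

/-- The frame of `B^{l+1}`. -/
def bigE (b : Fin n → B) (a : Fin (n * (l + 1))) : Fin (l + 1) → B :=
  Pi.single (enum n l a).1 (b (enum n l a).2)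

theorem isFrame_bigE {b : Fin n → B} {δ : Fin n → B →ₗ[A] A} {s : A} (h : IsFrame b δ s) :
    IsFrame (bigE n l b) (fun a => δ (enum n l a).2 ∘ₗ LinearMap.proj (enum n l a).1) s := by
  refine ⟨fun a c => ?_, fun v => ?_⟩
  · simp only [LinearMap.comp_apply, LinearMap.proj_apply, bigE]
    by_cases h1 : (enum n l a).1 = (enum n l c).1
    · rw [h1, Pi.single_eq_same, h.dual]
      refine if_congr ⟨fun h2 => ?_, fun h2 => by rw [h2]⟩ rfl rfl
      exact (enum n l).injective (Prod.ext h1 h2)
    · rw [Pi.single_eq_of_ne h1, map_zero, if_neg]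
      exact fun hac => h1 (by rw [hac])
  · rw [← (enum n l).symm.sum_comp, Fintype.sum_prod_type]
    simp only [LinearMap.comp_apply, LinearMap.proj_apply, bigE, Equiv.apply_symm_apply, ← Pi.single_smul]
    funext i
    simp only [Finset.sum_apply, Pi.smul_apply]
    rw [Finset.sum_eq_single i]
    · simp only [Pi.single_eq_same]
      exact h.span (v i)
    · intro x _ hx
      simp [Pi.single_eq_of_ne hx.symm]
    · simp

theorem wedge_gen (b : Fin n → B) :
    wedge A B n l ((PiTensorProduct.tprod A fun _ : Fin l => exteriorPower.ιMulti A n b) ⊗ₜ[A]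
      exteriorPower.ιMulti A n b) = exteriorPower.ιMulti A (n * (l + 1)) (bigE n l b) := by
  apply Subtype.ext
  let g : Fin (l + 1) → ExteriorAlgebra A (Fin (l + 1) → B) := fun i =>
    (List.ofFn fun j => ExteriorAlgebra.ι A (Pi.single (M := fun _ : Fin (l + 1) => B) i (b j))).prod
  have hg : ∀ i, ((exteriorPower.map n (LinearMap.single A (fun _ : Fin (l + 1) => B) i)
      (exteriorPower.ιMulti A n b) : ⋀[A]^n (Fin (l + 1) → B)) : ExteriorAlgebra A (Fin (l + 1) → B)) = g i := fun i => by
    rw [exteriorPower.map_apply_ιMulti, exteriorPower.ιMulti_apply_coe, ExteriorAlgebra.ιMulti_apply]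
    rfl
  show wedgeAlg A B n l _ = _
  simp only [wedgeAlg, LinearMap.comp_apply, TensorProduct.map_tmul, LinearMap.mul'_apply,
    PiTensorProduct.lift.tprod, MultilinearMap.compLinearMap_apply, Submodule.subtype_apply, hg,
    MultilinearMap.mkPiAlgebraFin_apply]
  rw [exteriorPower.ιMulti_apply_coe, ExteriorAlgebra.ιMulti_apply, List.ofFn_mul', List.prod_flatten,
    List.map_ofFn]
  rw [show (List.ofFn fun i : Fin l => g i.castSucc).prod * g (Fin.last l) = (List.ofFn g).prod by
    rw [List.ofFn_succ' g, List.concat_eq_append, List.prod_append, List.prod_singleton]]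
  congr 2
  funext i
  simp only [Function.comp_apply, g]
  congr 2
  funext j
  have he : enum n l ⟨n * i + j, by
      calc n * i + j < n * (i + 1) := by rw [Nat.mul_add, Nat.mul_one]; omega
        _ ≤ n * (l + 1) := Nat.mul_le_mul_left _ i.isLt⟩ = (i, j) := by
    rw [enum, Equiv.symm_apply_eq]
    ext
    simp [add_comm]
  simp only [bigE, he]

/-- The scalar cyclic structure of the tensor power. -/
theorem IsCyc.tensorPower {L : Type*} [AddCommGroup L] [Module A L] {ω : L} {D : L →ₗ[A] A} {s : A}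
    (h : IsCyc ω D s) :
    ∃ D' : ⨂[A]^l L →ₗ[A] A, IsCyc (PiTensorProduct.tprod A fun _ : Fin l => ω) D' (s ^ l) := by
  refine ⟨PiTensorProduct.lift ((MultilinearMap.mkPiAlgebra A (Fin l) A).compLinearMap fun _ => D),
    fun x => ?_, ?_⟩
  · induction x using PiTensorProduct.induction_on with
    | smul_tprod r v =>
      simp only [map_smul, PiTensorProduct.lift.tprod, MultilinearMap.compLinearMap_apply,
        MultilinearMap.mkPiAlgebra_apply]
      rw [smul_comm, smul_assoc]
      congr 1
      have h1 := (PiTensorProduct.tprod A (s := fun _ : Fin l => L)).map_smul_univ (fun _ => s) v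
      simp only [Finset.prod_const, Finset.card_univ, Fintype.card_fin, h.span] at h1
      rw [← h1, MultilinearMap.map_smul_univ]
    | add x y hx hy => rw [smul_add, hx, hy, map_add, add_smul]
  · simp [h.dual]

/-- The matrix of multiplication by an element in a frame. -/
def mulMat (b : Fin n → B) (δ : Fin n → B →ₗ[A] A) (c : B) : Matrix (Fin n) (Fin n) A :=
  Matrix.of fun u v => δ u (c * b v)

theorem det_block {b : Fin n → B} {δ : Fin n → B →ₗ[A] A} {s : A} (h : IsFrame b δ s)
    (T : Matrix (Fin (l + 1)) (Fin (l + 1)) B) :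
    ∃ N : ℕ, s ^ N * (s ^ (n * (l + 1)) * (mulMat n b δ T.det).det) =
      s ^ N * (s ^ n * (Matrix.comp (Fin (l + 1)) (Fin (l + 1)) (Fin n) (Fin n) A (T.map (mulMat n b δ))).det) := by
  classical
  let As := Localization.Away s
  let α := algebraMap A As
  let ι' : As := IsLocalization.Away.invSelf s
  have hs : α s * ι' = 1 := IsLocalization.Away.mul_invSelf s
  let R : B →+* Matrix (Fin n) (Fin n) As :=
    { toFun := fun c => ι' • (mulMat n b δ c).map α
      map_zero' := by ext; simp [mulMat, α]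
      map_add' := fun c c' => by ext; simp [mulMat, α, add_mul, mul_add]
      map_one' := by
        ext u v
        simp only [Matrix.smul_apply, Matrix.map_apply, mulMat, Matrix.of_apply, one_mul, h.dual, smul_eq_mul,
          Matrix.one_apply]
        split_ifs
        · rw [mul_comm, hs]
        · rw [map_zero, mul_zero]
      map_mul' := fun c c' => by
        ext u v
        simp only [Matrix.smul_apply, Matrix.map_apply, mulMat, Matrix.of_apply, smul_eq_mul, Matrix.mul_apply]
        have h1 : ∑ w, δ u (c * b w) * δ w (c' * b v) = s * δ u (c * c' * b v) := by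
          calc ∑ w, δ u (c * b w) * δ w (c' * b v) = δ u (c * ∑ w, δ w (c' * b v) • b w) := by
                rw [Finset.mul_sum, map_sum]
                refine Finset.sum_congr rfl fun w _ => ?_
                rw [mul_smul_comm, map_smul, smul_eq_mul, mul_comm]
            _ = s * δ u (c * c' * b v) := by rw [← h.span, mul_smul_comm, map_smul, smul_eq_mul, mul_assoc]
        calc ι' * α (δ u (c * c' * b v)) = ι' * ι' * (α s * α (δ u (c * c' * b v))) := by
              rw [show ι' * ι' * (α s * α (δ u (c * c' * b v))) = (α s * ι') * (ι' * α (δ u (c * c' * b v))) by ring,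
                hs, one_mul]
          _ = ι' * ι' * ∑ w, α (δ u (c * b w)) * α (δ w (c' * b v)) := by
              rw [← map_mul, ← h1, map_sum]; simp only [map_mul]
          _ = _ := by
              rw [Finset.mul_sum]
              refine Finset.sum_congr rfl fun w _ => ?_
              ring }
  have hR : ∀ c, R c = ι' • (mulMat n b δ c).map α := fun c => rfl
  have hcomp : Matrix.comp (Fin (l + 1)) (Fin (l + 1)) (Fin n) (Fin n) As (T.map R) =
      ι' • (Matrix.comp (Fin (l + 1)) (Fin (l + 1)) (Fin n) (Fin n) A (T.map (mulMat n b δ))).map α := by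
    ext x y
    rfl
  have hdd := Matrix.det_det T R
  rw [hR, hcomp, Matrix.det_smul, Matrix.det_smul, ← RingHom.mapMatrix_apply, ← RingHom.mapMatrix_apply,
    ← RingHom.map_det, ← RingHom.map_det, Fintype.card_prod, Fintype.card_fin, Fintype.card_fin] at hdd
  have key : α (s ^ (n * (l + 1)) * (mulMat n b δ T.det).det) =
      α (s ^ n * (Matrix.comp (Fin (l + 1)) (Fin (l + 1)) (Fin n) (Fin n) A (T.map (mulMat n b δ))).det) := by
    have h2 := congrArg (fun x => α s ^ n * α s ^ (n * (l + 1)) * x) hdd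
    beta_reduce at h2
    rw [map_mul, map_mul, map_pow, map_pow]
    have e1 : α s ^ n * ι' ^ n = 1 := by rw [← mul_pow, hs, one_pow]
    have e2 : α s ^ (n * (l + 1)) * ι' ^ ((l + 1) * n) = 1 := by rw [mul_comm (l + 1) n, ← mul_pow, hs, one_pow]
    calc α s ^ (n * (l + 1)) * α (mulMat n b δ T.det).det
        = (α s ^ n * ι' ^ n) * (α s ^ (n * (l + 1)) * α (mulMat n b δ T.det).det) := by rw [e1, one_mul]
      _ = α s ^ n * α s ^ (n * (l + 1)) * (ι' ^ n * α (mulMat n b δ T.det).det) := by ring
      _ = α s ^ n * α s ^ (n * (l + 1)) * (ι' ^ ((l + 1) * n) *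
            α (Matrix.comp (Fin (l + 1)) (Fin (l + 1)) (Fin n) (Fin n) A (T.map (mulMat n b δ))).det) := h2
      _ = (α s ^ (n * (l + 1)) * ι' ^ ((l + 1) * n)) * (α s ^ n *
            α (Matrix.comp (Fin (l + 1)) (Fin (l + 1)) (Fin n) (Fin n) A (T.map (mulMat n b δ))).det) := by ring
      _ = _ := by rw [e2, one_mul]
  obtain ⟨⟨_, N, rfl⟩, hN⟩ := IsLocalization.exists_of_eq (M := Submonoid.powers s) key
  exact ⟨N, hN⟩

/-- The induced endomorphism of `⋀^{n(l+1)}` corresponds to multiplication by the determinant. -/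
theorem wedge_det {p : Ideal A} [p.IsPrime] {b : Fin n → B} {δ : Fin n → B →ₗ[A] A} {s : A}
    (h : IsFrame b δ s) (hs : s ∉ p) (T : Matrix (Fin (l + 1)) (Fin (l + 1)) B) :
    ∃ t ∉ p, t • (exteriorPower.map (n * (l + 1)) (T.mulVecLin.restrictScalars A) ∘ₗ wedge A B n l) =
      t • (wedge A B n l ∘ₗ (exteriorPower.map n (LinearMap.mulLeft A T.det)).lTensor (⨂[A]^l (⋀[A]^n B))) := by
  classical
  obtain ⟨D, hD⟩ := h.isCyc
  obtain ⟨D', hD'⟩ := hD.tensorPower l
  have hZ := hD'.tensor hD
  obtain ⟨N, hN⟩ := det_block n l h T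
  set Z0 := (PiTensorProduct.tprod A fun _ : Fin l => exteriorPower.ιMulti A n b) ⊗ₜ[A] exteriorPower.ιMulti A n b
    with hZ0
  set E := exteriorPower.ιMulti A (n * (l + 1)) (bigE n l b) with hE
  set P := Matrix.comp (Fin (l + 1)) (Fin (l + 1)) (Fin n) (Fin n) A (T.map (mulMat n b δ)) with hP
  have hL : s ^ (n * (l + 1)) • exteriorPower.map (n * (l + 1)) (T.mulVecLin.restrictScalars A) E = P.det • E := by
    rw [hE, exteriorPower.map_apply_ιMulti]
    have h1 := (exteriorPower.ιMulti A (n * (l + 1)) (M := Fin (l + 1) → B)).toMultilinearMap.map_smul_univ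
      (fun _ => s) (⇑(T.mulVecLin.restrictScalars A) ∘ bigE n l b)
    simp only [Finset.prod_const, Finset.card_univ, Fintype.card_fin, AlternatingMap.coe_multilinearMap] at h1
    rw [← h1, funext fun a => (isFrame_bigE n l h).span ((⇑(T.mulVecLin.restrictScalars A) ∘ bigE n l b) a)]
    refine (ιMulti_sum (bigE n l b) (Matrix.of fun a c => δ (enum n l c).2
      (((⇑(T.mulVecLin.restrictScalars A) ∘ bigE n l b) a) (enum n l c).1))).trans ?_
    congr 1
    rw [← Matrix.det_transpose, ← Matrix.det_submatrix_equiv_self (enum n l) P]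
    congr 1
    ext c a
    simp [hP, mulMat, bigE, Matrix.mulVec_single]
  have hR : s ^ n • exteriorPower.map n (LinearMap.mulLeft A T.det) (exteriorPower.ιMulti A n b) =
      (mulMat n b δ T.det).det • exteriorPower.ιMulti A n b := by
    rw [exteriorPower.map_apply_ιMulti]
    have h1 := (exteriorPower.ιMulti A n (M := B)).toMultilinearMap.map_smul_univ
      (fun _ => s) (⇑(LinearMap.mulLeft A T.det) ∘ b)
    simp only [Finset.prod_const, Finset.card_univ, Fintype.card_fin, AlternatingMap.coe_multilinearMap] at h1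
    rw [← h1, funext fun a => h.span ((⇑(LinearMap.mulLeft A T.det) ∘ b) a)]
    refine (ιMulti_sum b (Matrix.of fun a c => δ c ((⇑(LinearMap.mulLeft A T.det) ∘ b) a))).trans ?_
    congr 1
    rw [← Matrix.det_transpose]
    rfl
  refine ⟨s ^ N * s ^ (n * (l + 1)) * s ^ n * ((s ^ n) ^ l * s ^ n), ?_, hZ.ext_smul ?_⟩
  · simp only [← pow_mul, ← pow_add]
    exact fun h => hs (Ideal.IsPrime.mem_of_pow_mem ‹_› _ h)
  have hw : wedge A B n l Z0 = E := wedge_gen n l b
  have hRz : s ^ n • wedge A B n l ((exteriorPower.map n (LinearMap.mulLeft A T.det)).lTensor _ Z0) =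
      (mulMat n b δ T.det).det • E := by
    rw [hZ0, LinearMap.lTensor_tmul, ← map_smul, ← TensorProduct.tmul_smul, hR, TensorProduct.tmul_smul, map_smul,
      ← hZ0, hw]
  simp only [LinearMap.comp_apply, hw]
  calc (s ^ N * s ^ (n * (l + 1)) * s ^ n) • exteriorPower.map (n * (l + 1)) (T.mulVecLin.restrictScalars A) E
      = (s ^ N * s ^ n) • (s ^ (n * (l + 1)) • exteriorPower.map (n * (l + 1)) (T.mulVecLin.restrictScalars A) E) := by
        rw [smul_smul]; congr 1; ring
    _ = (s ^ N * (s ^ n * P.det)) • E := by rw [hL, smul_smul, mul_assoc]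
    _ = (s ^ N * (s ^ (n * (l + 1)) * (mulMat n b δ T.det).det)) • E := by rw [hN]
    _ = (s ^ N * s ^ (n * (l + 1))) • ((mulMat n b δ T.det).det • E) := by rw [smul_smul, mul_assoc]
    _ = (s ^ N * s ^ (n * (l + 1)) * s ^ n) • _ := by rw [← hRz, smul_smul]

theorem wedge_ainv {p : Ideal A} [p.IsPrime] {b : Fin n → B} {δ : Fin n → B →ₗ[A] A} {s : A}
    (h : IsFrame b δ s) (hs : s ∉ p) : AInv p (wedge A B n l) := by
  obtain ⟨D, hD⟩ := h.isCyc
  obtain ⟨D', hD'⟩ := hD.tensorPower l
  have hZ := hD'.tensor hD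
  obtain ⟨DE, hDE⟩ := (isFrame_bigE n l h).isCyc
  have e : (s ^ n) ^ l * s ^ n = s ^ (n * (l + 1)) := by rw [← pow_mul, ← pow_add]; ring_nf
  rw [e] at hZ
  refine AInv.of_cyc hZ (D' := DE) (by rw [wedge_gen]; exact hDE)
    fun h => hs (Ideal.IsPrime.mem_of_pow_mem ‹_› _ h)

end Groth.Agent.DetNorm
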