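import Groth.Agent.DetNorm.Two
import Groth.Agent.DetNorm.Wedge
import Mathlib

/-!
# The determinant of a locally free module over a finite locally free algebra
-/

set_option autoImplicit false
set_option maxHeartbeats 1000000
set_option backward.isDefEq.respectTransparency false
set_option linter.style.haveILetI false

universe u

open scoped TensorProduct

noncomputable section

namespace Groth.Agent.DetNorm

variable {A B : Type u} [CommRing A] [CommRing B] [Algebra A B] {M : Type u} [AddCommGroup M] [Module B M]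
  [Module A M] [IsScalarTower A B M] {l : ℕ}

/-- The `A`-linear map given by `l + 1` vectors. -/
abbrev comb (m : Fin (l + 1) → M) : (Fin (l + 1) → B) →ₗ[A] M :=
  (Fintype.linearCombination B m).restrictScalars A

theorem AInv.comb' {p : Ideal A} {m₀ : Fin (l + 1) → M} {ψ : Fin (l + 1) → M →ₗ[B] B} {s : A} (hs : s ∉ p)
    (h : IsFrame m₀ ψ (algebraMap A B s)) : AInv p (comb (A := A) (B := B) m₀) := by
  refine ⟨s, hs, (LinearMap.pi ψ).restrictScalars A, ?_, ?_⟩
  · refine LinearMap.ext fun x => ?_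
    funext i
    simp only [LinearMap.comp_apply, LinearMap.restrictScalars_apply, Fintype.linearCombination_apply,
      LinearMap.pi_apply, map_sum, map_smul, h.dual, LinearMap.smul_apply, LinearMap.id_apply, Pi.smul_apply,
      smul_eq_mul, Finset.sum_apply]
    rw [Algebra.smul_def, mul_comm]
    simp [h.dual]
  · refine LinearMap.ext fun x => ?_
    simp only [LinearMap.comp_apply, LinearMap.restrictScalars_apply, Fintype.linearCombination_apply,
      LinearMap.pi_apply, LinearMap.smul_apply, LinearMap.id_apply]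
    rw [← algebraMap_smul B s x, h.span]

theorem comb_smul {m₀ : Fin (l + 1) → M} {ψ : Fin (l + 1) → M →ₗ[B] B} {s : A}
    (h : IsFrame m₀ ψ (algebraMap A B s)) (m : Fin (l + 1) → M) :
    s • comb (A := A) (B := B) m = comb m₀ ∘ₗ
      (Matrix.of fun j i => ψ j (m i)).mulVecLin.restrictScalars A := by
  refine LinearMap.ext fun x => ?_
  simp only [LinearMap.comp_apply, LinearMap.restrictScalars_apply, Fintype.linearCombination_apply,
    LinearMap.smul_apply, Matrix.mulVecLin_apply, Matrix.mulVec, dotProduct, Matrix.of_apply, Finset.sum_smul,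
    Finset.smul_sum]
  rw [Finset.sum_comm]
  refine Finset.sum_congr rfl fun i _ => ?_
  rw [← smul_comm (x i) s (m i), ← algebraMap_smul B s (m i), h.span, Finset.smul_sum]
  refine Finset.sum_congr rfl fun j _ => ?_
  rw [smul_smul, mul_comm]

theorem top_smul {m₀ : Fin (l + 1) → M} {ψ : Fin (l + 1) → M →ₗ[B] B} {s : A}
    (h : IsFrame m₀ ψ (algebraMap A B s)) (m : Fin (l + 1) → M) :
    s ^ (l + 1) • exteriorPower.ιMulti B (l + 1) m =
      (Matrix.of fun j i => ψ j (m i)).det • exteriorPower.ιMulti B (l + 1) m₀ := by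
  have h1 := (exteriorPower.ιMulti B (l + 1) (M := M)).toMultilinearMap.map_smul_univ
    (fun _ => algebraMap A B s) m
  simp only [Finset.prod_const, Finset.card_univ, Fintype.card_fin, AlternatingMap.coe_multilinearMap] at h1
  rw [← algebraMap_smul B (s ^ (l + 1)), map_pow, ← h1, funext fun a => h.span (m a)]
  refine (ιMulti_sum m₀ (Matrix.of fun a j => ψ j (m a))).trans ?_
  congr 1
  exact (Matrix.det_transpose _).symm

theorem det_multi [Module.Finite A B] [Module.Projective A B] (n : ℕ)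
    (hn : ∀ q : PrimeSpectrum A, Module.rankAtStalk B q = n)
    [Module.Finite B M] [Module.Projective B M]
    (hM : ∀ q : PrimeSpectrum B, Module.rankAtStalk M q = l + 1) :
    Nonempty ((⋀[A]^(n * (l + 1)) M) ≃ₗ[A] (⨂[A]^l (⋀[A]^n B)) ⊗[A] (⋀[A]^n (⋀[B]^(l + 1) M))) := by
  classical
  let G : (Fin (l + 1) → M) → (⨂[A]^l (⋀[A]^n B)) ⊗[A] (⋀[A]^n B) →ₗ[A] ⋀[A]^(n * (l + 1)) M :=
    fun m => exteriorPower.map (n * (l + 1)) (comb (A := A) (B := B) m) ∘ₗ wedge A B n l
  let F : (Fin (l + 1) → M) → (⨂[A]^l (⋀[A]^n B)) ⊗[A] (⋀[A]^n B) →ₗ[A]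
      (⨂[A]^l (⋀[A]^n B)) ⊗[A] (⋀[A]^n (⋀[B]^(l + 1) M)) :=
    fun m => (exteriorPower.map n (orbit (A := A) (B := B) (exteriorPower.ιMulti B (l + 1) m))).lTensor _
  letI : AddCommGroup (⨂[A]^l (⋀[A]^n B)) := Module.addCommMonoidToAddCommGroup A
  refine glue (P := ⋀[A]^(n * (l + 1)) M) (Q := (⨂[A]^l (⋀[A]^n B)) ⊗[A] (⋀[A]^n (⋀[B]^(l + 1) M)))
    (Z := (⨂[A]^l (⋀[A]^n B)) ⊗[A] (⋀[A]^n B)) G F fun p hp => ?_
  haveI := hp.isPrime
  obtain ⟨m₀, ψ, s, hs, hf⟩ := exists_frame_over (A := A) hM p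
  obtain ⟨b, δ, r, hr, hb⟩ := exists_frame_semilocal' (A := A) hn p
  obtain ⟨Dk, hDk⟩ := hf.isCyc
  refine ⟨m₀, (wedge_ainv n l hb hr).comp ((AInv.comb' hs hf).map _), ?_, fun m => ?_⟩
  · refine ((AInv.orbit' (ψ := Dk) (s := s ^ (l + 1)) (fun h => hs (hp.isPrime.mem_of_pow_mem _ h)) ?_ ?_).map n).lTensor
    · rw [map_pow]; exact hDk.dual
    · intro v
      rw [← algebraMap_smul B (s ^ (l + 1)), map_pow]
      exact hDk.span v
  obtain ⟨t, ht, htd⟩ := wedge_det n l hb hr (Matrix.of fun j i => ψ j (m i))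
  refine ⟨t * s ^ (n * (l + 1)), fun h => (hp.isPrime.mem_or_mem h).elim ht
      fun h => hs (hp.isPrime.mem_of_pow_mem _ h),
    t • (exteriorPower.map n (LinearMap.mulLeft A (Matrix.of fun j i => ψ j (m i)).det)).lTensor _, ?_, ?_⟩
  · show (t * s ^ (n * (l + 1))) • (exteriorPower.map (n * (l + 1)) (comb (A := A) (B := B) m) ∘ₗ wedge A B n l) = _
    rw [mul_smul, ← LinearMap.smul_comp, ← map_smul_eq, comb_smul hf, exteriorPower.map_comp,
      LinearMap.comp_smul, LinearMap.comp_assoc, LinearMap.comp_assoc, ← LinearMap.comp_smul, htd,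
      LinearMap.comp_smul]
  · show (t * s ^ (n * (l + 1))) • (exteriorPower.map n (orbit (A := A) (B := B)
      (exteriorPower.ιMulti B (l + 1) m))).lTensor _ = _
    rw [mul_comm n (l + 1), pow_mul, mul_smul, ← LinearMap.lTensor_smul _ ((s ^ (l + 1)) ^ n), ← map_smul_eq,
      orbit_smul _ _ _ _ (top_smul hf m), exteriorPower.map_comp, LinearMap.lTensor_comp, LinearMap.comp_smul]

end Groth.Agent.DetNorm
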