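import Groth.Agent.DetNorm.Glue
import Mathlib

/-!
# The determinant of a tensor product of two invertible modules
-/

set_option autoImplicit false
set_option maxHeartbeats 1000000
set_option backward.isDefEq.respectTransparency false
set_option linter.style.haveILetI false

universe u

open scoped TensorProduct

namespace Groth.Agent.DetNorm

variable {A B : Type u} [CommRing A] [CommRing B] [Algebra A B]

/-- The `A`-linear map `b ↦ b • m`. -/
abbrev orbit {N : Type*} [AddCommGroup N] [Module B N] [Module A N] [IsScalarTower A B N] (m : N) : B →ₗ[A] N :=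
  (LinearMap.toSpanSingleton B N m).restrictScalars A

theorem orbit_smul {N : Type*} [AddCommGroup N] [Module B N] [Module A N] [IsScalarTower A B N]
    (m m₀ : N) (s : A) (b : B) (h : s • m = b • m₀) :
    s • orbit (A := A) (B := B) m = orbit m₀ ∘ₗ LinearMap.mulLeft A b := by
  ext1 x
  simp only [LinearMap.smul_apply, LinearMap.restrictScalars_apply, LinearMap.toSpanSingleton_apply,
    LinearMap.comp_apply, LinearMap.mulLeft_apply]
  rw [← smul_comm x s m, h, smul_smul, mul_comm]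

/-- A generator at `p`. -/
theorem exists_gen [Module.Finite A B] {N : Type*} [AddCommGroup N] [Module B N] [Module A N]
    [IsScalarTower A B N] [Module.Finite B N] [Module.Projective B N]
    (hN : ∀ q : PrimeSpectrum B, Module.rankAtStalk N q = 1) (p : Ideal A) [p.IsPrime] :
    ∃ (m₀ : N) (ψ : N →ₗ[B] B) (s : A), s ∉ p ∧ ψ m₀ = algebraMap A B s ∧ ∀ v, s • v = ψ v • m₀ := by
  obtain ⟨e, φ, s, hs, h⟩ := exists_frame_over (A := A) hN p
  refine ⟨e 0, φ 0, s, hs, by simpa using h.dual 0 0, fun v => ?_⟩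
  rw [← algebraMap_smul B s v, h.span v]
  simp

theorem AInv.orbit' {N : Type*} [AddCommGroup N] [Module B N] [Module A N] [IsScalarTower A B N]
    {p : Ideal A} {m₀ : N} {ψ : N →ₗ[B] B} {s : A} (hs : s ∉ p) (h0 : ψ m₀ = algebraMap A B s)
    (h : ∀ v, s • v = ψ v • m₀) : AInv p (orbit (A := A) (B := B) m₀) := by
  refine ⟨s, hs, ψ.restrictScalars A, ?_, ?_⟩
  · ext1 x
    simp only [LinearMap.comp_apply, LinearMap.restrictScalars_apply, LinearMap.toSpanSingleton_apply,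
      map_smul, h0, LinearMap.smul_apply, LinearMap.id_apply]
    rw [smul_eq_mul, Algebra.smul_def, mul_comm]
  · ext1 x
    simp only [LinearMap.comp_apply, LinearMap.restrictScalars_apply, LinearMap.toSpanSingleton_apply,
      LinearMap.smul_apply, LinearMap.id_apply]
    exact (h x).symm

theorem AInv.tensorMap {p : Ideal A} [p.IsPrime] {X Y X' Y' : Type*} [AddCommGroup X] [Module A X]
    [AddCommGroup Y] [Module A Y] [AddCommGroup X'] [Module A X'] [AddCommGroup Y'] [Module A Y']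
    {f : X →ₗ[A] Y} {g : X' →ₗ[A] Y'} (hf : AInv p f) (hg : AInv p g) :
    AInv p (TensorProduct.map f g) := by
  rw [← LinearMap.lTensor_comp_rTensor (g := g) (f := f)]
  exact hf.rTensor.comp hg.lTensor

theorem det_tensor_invertible [Module.Finite A B] [Module.Projective A B] (n : ℕ)
    (hn : ∀ q : PrimeSpectrum A, Module.rankAtStalk B q = n)
    (M₁ M₂ : Type u) [AddCommGroup M₁] [Module B M₁] [Module A M₁] [IsScalarTower A B M₁]
    [AddCommGroup M₂] [Module B M₂] [Module A M₂] [IsScalarTower A B M₂]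
    [Module.Finite B M₁] [Module.Projective B M₁] [Module.Finite B M₂] [Module.Projective B M₂]
    (h₁ : ∀ q : PrimeSpectrum B, Module.rankAtStalk M₁ q = 1)
    (h₂ : ∀ q : PrimeSpectrum B, Module.rankAtStalk M₂ q = 1) :
    Nonempty ((⋀[A]^n B) ⊗[A] (⋀[A]^n (M₁ ⊗[B] M₂)) ≃ₗ[A] (⋀[A]^n M₁) ⊗[A] (⋀[A]^n M₂)) := by
  classical
  let F : M₁ × M₂ → (⋀[A]^n B) ⊗[A] (⋀[A]^n B) →ₗ[A] (⋀[A]^n B) ⊗[A] (⋀[A]^n (M₁ ⊗[B] M₂)) :=
    fun m => (exteriorPower.map n (orbit (A := A) (B := B) (m.1 ⊗ₜ[B] m.2))).lTensor _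
  let G : M₁ × M₂ → (⋀[A]^n B) ⊗[A] (⋀[A]^n B) →ₗ[A] (⋀[A]^n M₁) ⊗[A] (⋀[A]^n M₂) :=
    fun m => TensorProduct.map (exteriorPower.map n (orbit (A := A) (B := B) m.1))
      (exteriorPower.map n (orbit (A := A) (B := B) m.2))
  refine glue (P := (⋀[A]^n B) ⊗[A] (⋀[A]^n (M₁ ⊗[B] M₂))) (Q := (⋀[A]^n M₁) ⊗[A] (⋀[A]^n M₂))
    (Z := (⋀[A]^n B) ⊗[A] (⋀[A]^n B)) F G fun p hp => ?_
  haveI := hp.isPrime
  obtain ⟨a₀, ψ₁, s₁, hs₁, ha₀, hψ₁⟩ := exists_gen (A := A) h₁ p
  obtain ⟨b₀, ψ₂, s₂, hs₂, hb₀, hψ₂⟩ := exists_gen (A := A) h₂ p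
  obtain ⟨e, δ, s, hsp, hframe⟩ := exists_frame_semilocal' (A := A) hn p
  obtain ⟨D, hD⟩ := hframe.isCyc
  have hs12 : s₁ * s₂ ∉ p := fun h => (hp.isPrime.mem_or_mem h).elim hs₁ hs₂
  let ψ : M₁ ⊗[B] M₂ →ₗ[B] B := (TensorProduct.lid B B).toLinearMap ∘ₗ TensorProduct.map ψ₁ ψ₂
  have hψ : ∀ v : M₁ ⊗[B] M₂, (s₁ * s₂) • v = ψ v • (a₀ ⊗ₜ[B] b₀) := fun v => by
    induction v using TensorProduct.induction_on with
    | zero => simp
    | add x y hx hy => rw [smul_add, hx, hy, map_add, add_smul]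
    | tmul x y =>
      simp only [ψ, LinearMap.comp_apply, TensorProduct.map_tmul, LinearEquiv.coe_coe, TensorProduct.lid_tmul,
        smul_eq_mul]
      rw [← algebraMap_smul B (s₁ * s₂), map_mul, ← TensorProduct.smul_tmul_smul, algebraMap_smul,
        algebraMap_smul, hψ₁, hψ₂, TensorProduct.smul_tmul_smul]
  refine ⟨(a₀, b₀), ?_, ?_, fun m => ?_⟩
  · exact ((AInv.orbit' hs12 (by simp [ψ, ha₀, hb₀]) hψ).map n).lTensor
  · exact ((AInv.orbit' hs₁ ha₀ hψ₁).map n).tensorMap ((AInv.orbit' hs₂ hb₀ hψ₂).map n)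
  obtain ⟨m₁, m₂⟩ := m
  set c₁ := exteriorPower.map n (LinearMap.mulLeft A (ψ₁ m₁))
  set c₂ := exteriorPower.map n (LinearMap.mulLeft A (ψ₂ m₂))
  have hc : exteriorPower.map n (LinearMap.mulLeft A (ψ₁ m₁ * ψ₂ m₂)) = c₁ ∘ₗ c₂ := by
    rw [LinearMap.mulLeft_mul, exteriorPower.map_comp]
  set t := (s ^ n) ^ 3 * (s₁ ^ n * s₂ ^ n) with htdef
  have ht : t ∉ p := by
    intro h
    rcases hp.isPrime.mem_or_mem h with h | h
    · exact hsp (hp.isPrime.mem_of_pow_mem _ (hp.isPrime.mem_of_pow_mem _ h))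
    rcases hp.isPrime.mem_or_mem h with h | h
    · exact hs₁ (hp.isPrime.mem_of_pow_mem _ h)
    · exact hs₂ (hp.isPrime.mem_of_pow_mem _ h)
  refine ⟨t, ht, (s ^ n) ^ 3 • (c₁ ∘ₗ c₂).lTensor _, ?_, ?_⟩
  · have h12 : (s₁ * s₂) • (m₁ ⊗ₜ[B] m₂) = (ψ₁ m₁ * ψ₂ m₂) • (a₀ ⊗ₜ[B] b₀) := by
      rw [hψ]; simp [ψ]
    show t • (exteriorPower.map n (orbit (A := A) (B := B) (m₁ ⊗ₜ[B] m₂))).lTensor _ = _
    rw [htdef, ← mul_pow, mul_smul, ← LinearMap.lTensor_smul _ ((s₁ * s₂) ^ n), ← map_smul_eq,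
      orbit_smul _ _ _ _ h12, exteriorPower.map_comp, hc, LinearMap.lTensor_comp, LinearMap.comp_smul]
  · show t • TensorProduct.map (exteriorPower.map n (orbit (A := A) (B := B) m₁))
      (exteriorPower.map n (orbit (A := A) (B := B) m₂)) = _
    rw [htdef, mul_smul, mul_smul (s₁ ^ n), ← TensorProduct.map_smul_right, ← map_smul_eq,
      orbit_smul _ _ _ _ (hψ₂ m₂), ← TensorProduct.map_smul_left, ← map_smul_eq, orbit_smul _ _ _ _ (hψ₁ m₁),
      exteriorPower.map_comp, exteriorPower.map_comp, TensorProduct.map_comp, ← LinearMap.comp_smul]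
    rw [← LinearMap.lTensor_comp_rTensor (g := c₂) (f := c₁)]
    congr 1
    rw [← LinearMap.comp_smul, hD.swap, LinearMap.comp_smul, LinearMap.lTensor_comp]
    congr 1
    rw [← LinearMap.lTensor_comp, ← LinearMap.lTensor_comp, ← exteriorPower.map_comp, ← exteriorPower.map_comp,
      ← LinearMap.mulLeft_mul, ← LinearMap.mulLeft_mul, mul_comm]

end Groth.Agent.DetNorm
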